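import Cfsg.Agent.Lib.E11.Defs
import Cfsg.Agent.S0033
import Cfsg.Agent.S0205

set_option autoImplicit false
set_option linter.unusedSectionVars false

namespace H30.E11

open Subgroup H69
open scoped commutatorElement

variable {G Ω : Type} [Group G] [Finite G] [MulAction G Ω] [Finite Ω] {ρ : Ω → Subgroup G}

theorem em_exists_prime (P : Subgroup G) (n : ℕ) : n ≠ 0 → ∀ x : G, x ∉ P → x ^ n ∈ P →
    ∃ r : ℕ, r.Prime ∧ ∃ k : ℕ, x ^ k ∉ P ∧ (x ^ k) ^ r ∈ P := by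
  induction n using Nat.recOnMul with
  | zero => exact fun h => absurd rfl h
  | one => exact fun _ x hx h => absurd (pow_one x ▸ h) hx
  | prime p hp => exact fun _ x hx h => ⟨p, hp, 1, by rwa [pow_one], by rwa [pow_one]⟩
  | mul a b iha ihb =>
    intro h0 x hx h
    by_cases h1 : x ^ a ∈ P
    · exact iha (left_ne_zero_of_mul h0) x hx h1
    · obtain ⟨r, hr, k, h2, h3⟩ := ihb (right_ne_zero_of_mul h0) (x ^ a) h1 (by rwa [← pow_mul])
      exact ⟨r, hr, a * k, by rwa [pow_mul], by rwa [pow_mul]⟩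

theorem em_mul_pow {P M : Subgroup G} (hM : M ≤ 𝐂(P))
    (hc : ∀ x ∈ M, ∀ y ∈ M, x * y * x⁻¹ * y⁻¹ ∈ P) {x y : G} (hx : x ∈ M) (hy : y ∈ M) (n : ℕ) :
    ∃ p ∈ P, (x * y) ^ n = x ^ n * y ^ n * p := by
  induction n with
  | zero => exact ⟨1, one_mem _, by simp⟩
  | succ n ih =>
    obtain ⟨p, hp, e⟩ := ih
    have hq := hc _ (pow_mem hy n) _ hx
    set q := y ^ n * x * (y ^ n)⁻¹ * x⁻¹ with hqd
    refine ⟨q * p, mul_mem hq hp, ?_⟩
    have h1 : p * (x * y) = x * y * p := hM (mul_mem hx hy) p hp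
    have h2 : q * (x * y ^ n * y) = x * y ^ n * y * q :=
      hM (mul_mem (mul_mem hx (pow_mem hy n)) hy) q hq
    have h3 : y ^ n * x = q * (x * y ^ n) := by rw [hqd]; group
    calc (x * y) ^ (n + 1) = x ^ n * y ^ n * (p * (x * y)) := by rw [pow_succ, e]; group
      _ = x ^ n * (y ^ n * x) * y * p := by rw [h1]; group
      _ = x ^ n * (q * (x * y ^ n * y)) * p := by rw [h3]; group
      _ = x ^ (n + 1) * y ^ (n + 1) * (q * p) := by rw [h2]; group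

/-- a minimal invariant subgroup above `P` -/
theorem em_min (P : Subgroup G) (hP : P < 𝐂(P)) (ho : Odd (Nat.card 𝐂(P))) :
    ∃ (M : Subgroup G) (r : ℕ), r.Prime ∧ P < M ∧ M ≤ 𝐂(P) ∧ 𝐍(P) ≤ 𝐍(M) ∧
      (∀ x ∈ M, ∀ y ∈ M, x * y * x⁻¹ * y⁻¹ ∈ P) ∧ (∀ x ∈ M, x ^ r ∈ P) ∧
      ∀ M' : Subgroup G, P ≤ M' → M' ≤ M → 𝐍(P) ≤ 𝐍(M') → M' = P ∨ M' = M := by
  obtain ⟨M, ⟨h1, h2, h3⟩, hmin⟩ := exists_minimal_of_wellFoundedLT
    (fun M : Subgroup G => P < M ∧ M ≤ 𝐂(P) ∧ 𝐍(P) ≤ 𝐍(M))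
    ⟨𝐂(P), hP, le_rfl, normalizer_le_normalizer_centralizer P⟩
  have hm : ∀ M' : Subgroup G, P ≤ M' → M' ≤ M → 𝐍(P) ≤ 𝐍(M') → M' = P ∨ M' = M := by
    intro M' a b c
    by_cases e : M' = P
    · exact Or.inl e
    · exact Or.inr (le_antisymm b (hmin ⟨lt_of_le_of_ne a (Ne.symm e), b.trans h2, c⟩ b))
  have hsol : Group.IsSolvable 𝐂(P) := Cfsg.Agent.S0205.result ho
  have hc : ∀ x ∈ M, ∀ y ∈ M, x * y * x⁻¹ * y⁻¹ ∈ P := by
    have hD : ⁅M, M⁆ ≤ M := commutator_le_of_le le_rfl le_rfl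
    rcases hm (⁅M, M⁆ ⊔ P) le_sup_right (sup_le hD h1.le)
      (le_normalizer_sup (le_normalizer_commutator h3 h3) le_rfl) with e | e
    · intro x hx y hy
      rw [← e]
      exact mem_sup_left (commutator_mem_commutator hx hy)
    · exfalso
      have hn : P ≤ 𝐍(⁅M, M⁆) := le_normalizer.trans (le_normalizer_commutator h3 h3)
      have hle : ⁅M, M⁆ ≤ ⁅⁅M, M⁆, ⁅M, M⁆⁆ := by
        rw [commutator_le]
        intro x hx y hy
        have hx' := hx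
        have hy' := hy
        rw [← e] at hx' hy'
        obtain ⟨a, ha, p, hp, rfl⟩ := (mem_sup_of_le_normalizer_left hn).1 hx'
        obtain ⟨b, hb, q, hq, rfl⟩ := (mem_sup_of_le_normalizer_left hn).1 hy'
        have e1 : p * (b * q) = b * q * p := h2 hy p hp
        have e2 : q * a⁻¹ = a⁻¹ * q := h2 (inv_mem (hD ha)) q hq
        have : ⁅a * p, b * q⁆ = ⁅a, b⁆ := by
          rw [commutatorElement_def, commutatorElement_def]
          calc a * p * (b * q) * (a * p)⁻¹ * (b * q)⁻¹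
              = a * (p * (b * q)) * p⁻¹ * a⁻¹ * q⁻¹ * b⁻¹ := by group
            _ = a * b * (q * a⁻¹) * q⁻¹ * b⁻¹ := by rw [e1]; group
            _ = a * b * a⁻¹ * b⁻¹ := by rw [e2]; group
        rw [this]
        exact commutator_mem_commutator ha hb
      by_cases h0 : ⁅M, M⁆ = ⊥
      · rw [h0, bot_sup_eq] at e
        exact h1.ne e
      · have hs : Group.IsSolvable ↥(⁅M, M⁆) :=
          Group.isSolvable_of_isSolvable_injective (inclusion_injective (hD.trans h2))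
        have := (nontrivial_iff_ne_bot _).2 h0
        have hlt := Group.IsSolvable.commutator_lt_top_of_nontrivial ↥(⁅M, M⁆)
        rw [← map_subtype_lt_map_subtype, map_subtype_commutator, ← MonoidHom.range_eq_map,
          range_subtype] at hlt
        exact hlt.not_ge hle
  obtain ⟨x0, hx0, hx0P⟩ := SetLike.exists_of_lt h1
  obtain ⟨r, hr, k, hk1, hk2⟩ := em_exists_prime P (orderOf x0) (orderOf_pos x0).ne' x0 hx0P
    (by rw [pow_orderOf_eq_one]; exact one_mem _)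
  let E : Subgroup G :=
    { carrier := {x | x ∈ M ∧ x ^ r ∈ P}
      mul_mem' := fun {a b} ha hb => ⟨mul_mem ha.1 hb.1, by
        obtain ⟨p, hp, e⟩ := em_mul_pow h2 hc ha.1 hb.1 r
        rw [e]
        exact mul_mem (mul_mem ha.2 hb.2) hp⟩
      one_mem' := ⟨one_mem _, by rw [one_pow]; exact one_mem _⟩
      inv_mem' := fun {a} ha => ⟨inv_mem ha.1, by rw [inv_pow]; exact inv_mem ha.2⟩ }
  have hE : 𝐍(P) ≤ 𝐍(E) := by
    refine le_normalizer_of_cj_le fun g hg x hx => ?_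
    obtain ⟨a, ha, rfl⟩ := mem_cj'.1 hx
    refine ⟨conj_mem_of_mem_normalizer (h3 hg) ha.1, ?_⟩
    rw [conj_pow]
    exact conj_mem_of_mem_normalizer hg ha.2
  rcases hm E (fun x hx => ⟨h1.le hx, pow_mem hx r⟩) (fun x hx => hx.1) hE with e | e
  · exact absurd (e ▸ (⟨pow_mem hx0 k, hk2⟩ : x0 ^ k ∈ E)) hk1
  · refine ⟨M, r, hr, h1, h2, h3, hc, fun x hx => ?_, hm⟩
    rw [← e] at hx
    exact hx.2

theorem em_comm_pow {x y : G} (h : (x * y * x⁻¹ * y⁻¹) * x = x * (x * y * x⁻¹ * y⁻¹)) (n : ℕ) :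
    x ^ n * y * (x ^ n)⁻¹ * y⁻¹ = (x * y * x⁻¹ * y⁻¹) ^ n := by
  induction n with
  | zero => simp
  | succ n ih =>
    have hc : Commute (x * y * x⁻¹ * y⁻¹) x := h
    have h1 := (hc.pow_left n).eq
    calc x ^ (n + 1) * y * (x ^ (n + 1))⁻¹ * y⁻¹
        = x * (x ^ n * y * (x ^ n)⁻¹ * y⁻¹) * y * x⁻¹ * y⁻¹ := by group
      _ = (x * y * x⁻¹ * y⁻¹) ^ n * x * y * x⁻¹ * y⁻¹ := by rw [ih, h1]
      _ = (x * y * x⁻¹ * y⁻¹) ^ (n + 1) := by rw [pow_succ]; simp only [mul_assoc]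

theorem em_card_pow {P : Subgroup G} {n : ℕ} (hP : Nat.card P = n) {x : G} (hx : x ∈ P) :
    x ^ n = 1 := by
  have := pow_card_eq_one' (x := (⟨x, hx⟩ : P))
  rw [hP] at this
  exact congrArg Subtype.val this

/-- the `r`-part of `M` for `r ≠ 11` -/
theorem em_part (P M : Subgroup G) (r : ℕ) (hr : r.Prime) (h11 : r ≠ 11) (hP : Nat.card P = 11)
    (hPM : P < M) (hM : M ≤ 𝐂(P)) (hc : ∀ x ∈ M, ∀ y ∈ M, x * y * x⁻¹ * y⁻¹ ∈ P)
    (hp : ∀ x ∈ M, x ^ r ∈ P) : ∃ R : Subgroup G, R ≠ ⊥ ∧ R ≤ M ∧ 𝐍(M) ≤ 𝐍(R) ∧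
      (∀ x ∈ R, x ^ r = 1) ∧ ∀ x ∈ R, ∀ y ∈ R, x * y = y * x := by
  have hco : r.Coprime 11 := (Nat.coprime_primes hr (by norm_num)).2 h11
  have hab : ∀ x ∈ M, ∀ y ∈ M, x * y = y * x := by
    intro x hx y hy
    have h1 := hc x hx y hy
    have h2 := em_comm_pow (hM hx _ h1) r
    have h3 : x ^ r * y = y * x ^ r := hM hy _ (hp x hx)
    rw [h3, mul_inv_cancel_right, mul_inv_cancel] at h2
    have h4 : x * y * x⁻¹ * y⁻¹ = 1 :=
      (pow_eq_one_iff_of_coprime hco).1 ⟨h2.symm, em_card_pow hP h1⟩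
    rwa [mul_inv_eq_one, mul_inv_eq_iff_eq_mul] at h4
  let R : Subgroup G :=
    { carrier := {x | x ∈ M ∧ x ^ r = 1}
      mul_mem' := fun {a b} ha hb => ⟨mul_mem ha.1 hb.1, by
        rw [(show Commute a b from hab a ha.1 b hb.1).mul_pow, ha.2, hb.2, one_mul]⟩
      one_mem' := ⟨one_mem _, one_pow _⟩
      inv_mem' := fun {a} ha => ⟨inv_mem ha.1, by rw [inv_pow, ha.2, inv_one]⟩ }
  refine ⟨R, ?_, fun x hx => hx.1, ?_, fun x hx => hx.2, fun x hx y hy => hab x hx.1 y hy.1⟩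
  · obtain ⟨x0, hx0, hx0P⟩ := SetLike.exists_of_lt hPM
    intro h0
    have h1 : x0 ^ 11 ∈ R := ⟨pow_mem hx0 11, by
      rw [← pow_mul, mul_comm, pow_mul]; exact em_card_pow hP (hp x0 hx0)⟩
    rw [h0, mem_bot] at h1
    have h2 : r.Coprime (orderOf x0) :=
      Nat.Coprime.coprime_dvd_right (orderOf_dvd_of_pow_eq_one h1) hco
    obtain ⟨m, hm⟩ := exists_pow_eq_self_of_coprime h2
    exact hx0P (hm ▸ pow_mem (hp x0 hx0) m)
  · refine fun g hg => mem_normalizer_of_cj_le fun x hx => ?_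
    obtain ⟨a, ha, rfl⟩ := mem_cj'.1 hx
    exact ⟨conj_mem_of_mem_normalizer hg ha.1, by rw [conj_pow, ha.2, mul_one, mul_inv_cancel]⟩

theorem em_nilp_center {H : Type*} [Group H] [Group.IsNilpotent H] (N : Subgroup H) [hN : N.Normal]
    (h : N ≠ ⊥) : ∃ y ∈ N, y ≠ 1 ∧ ∀ d : H, y * d = d * y := by
  by_contra hc
  have h1 : ∀ n : ℕ, ∀ y ∈ N, y ∈ Subgroup.upperCentralSeries H n → y = 1 := by
    intro n
    induction n with
    | zero => exact fun y _ hy => mem_bot.1 hy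
    | succ n ih =>
      intro y hy hy'
      by_contra hne
      refine hc ⟨y, hy, hne, fun d => ?_⟩
      refine commutatorElement_eq_one_iff_mul_comm.1
        (ih _ ?_ (Subgroup.mem_upperCentralSeries_succ_iff.1 hy' d))
      rw [commutatorElement_def, mul_assoc, mul_assoc, ← mul_assoc d]
      exact mul_mem hy (hN.conj_mem _ (inv_mem hy) d)
  obtain ⟨n, hn⟩ := Group.IsNilpotent.nilpotent H
  exact h (eq_bot_iff.2 fun y hy => mem_bot.2 (h1 n y hy (hn ▸ mem_top y)))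

/-- a fixed point free automorphism of order 11 -/
theorem em_fpf (R A : Subgroup G) (a0 : G) (h11 : orderOf a0 = 11) (hR : R ≠ ⊥) (hA : A ≤ 𝐍(R))
    (haR : a0 ∈ 𝐍(R)) (haA : a0 ∈ 𝐍(A)) (hRc : ¬ 11 ∣ Nat.card R) (hAc : ¬ 11 ∣ Nat.card A)
    (hf : ∀ y ∈ R ⊔ A, y * a0 = a0 * y → y ^ 11 = 1) :
    ∃ y ∈ R, y ≠ 1 ∧ ∀ d ∈ A, y * d = d * y := by
  have h11p : Nat.Prime 11 := by norm_num
  have hH : ¬ 11 ∣ Nat.card ↥(R ⊔ A) := by
    intro h
    rw [sup_comm] at h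
    rcases (Nat.Prime.dvd_mul h11p).1 (h.trans (H1.card_sup_dvd_of_le_normalizer hA)) with h | h
    · exact hAc h
    · exact hRc h
  have haH : a0 ∈ 𝐍(R ⊔ A) := normalizer_inf_normalizer_le_normalizer_sup R A ⟨haR, haA⟩
  let φ : MulAut ↥(R ⊔ A) := (R ⊔ A).normalizerMonoidHom ⟨a0, haH⟩
  have hφ : ∀ y : ↥(R ⊔ A), ((φ y : ↥(R ⊔ A)) : G) = a0 * y * a0⁻¹ := fun y => rfl
  have hfp : ∀ y : ↥(R ⊔ A), φ y = y → y = 1 := by
    intro y hy
    have h1 : a0 * y * a0⁻¹ = y := (hφ y).symm.trans (congrArg Subtype.val hy)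
    have h2 : (y : G) ^ 11 = 1 := hf y y.2 (by rw [mul_inv_eq_iff_eq_mul] at h1; exact h1.symm)
    have h3 : y ^ 11 = 1 := Subtype.ext h2
    exact (pow_eq_one_iff_of_coprime ((Nat.Prime.coprime_iff_not_dvd h11p).2 hH)).1
      ⟨h3, pow_card_eq_one'⟩
  have : Fact (Nat.Prime 11) := ⟨h11p⟩
  have hord : orderOf φ = 11 := by
    refine orderOf_eq_prime ?_ ?_
    · rw [← map_pow]
      have : (⟨a0, haH⟩ : 𝐍(R ⊔ A)) ^ 11 = 1 :=
        Subtype.ext (by rw [← h11]; exact pow_orderOf_eq_one a0)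
      rw [this, map_one]
    · intro h1
      apply hR
      rw [eq_bot_iff]
      intro y hy
      exact congrArg Subtype.val (hfp ⟨y, mem_sup_left hy⟩ (by rw [h1]; rfl))
  have := Cfsg.Agent.S0033.result φ hfp 11 h11p hord
  have hn : (R.subgroupOf (R ⊔ A)).Normal :=
    normal_subgroupOf_of_le_normalizer (sup_le le_normalizer hA)
  obtain ⟨y, hy, h1, h2⟩ := em_nilp_center (R.subgroupOf (R ⊔ A)) (fun h0 => hR (by
    rw [subgroupOf_eq_bot] at h0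
    exact h0.eq_bot_of_le le_sup_left))
  exact ⟨y, hy, fun e => h1 (Subtype.ext e),
    fun d hd => congrArg Subtype.val (h2 ⟨d, mem_sup_right hd⟩)⟩

end H30.E11
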