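import Cfsg.Agent.Lib.E11.NE
import Cfsg.Agent.Lib.E11.EXB
import Cfsg.Agent.Lib.E11.EM
import Cfsg.Agent.Lib.E11.EB

set_option autoImplicit false
set_option linter.unusedSectionVars false

namespace H30.E11

open Subgroup H69

variable {G Ω : Type} [Group G] [Finite G] [MulAction G Ω] [Finite Ω] {ρ : Ω → Subgroup G}

theorem ex2_odd (hW : LW ρ) {a : Ω} {K K' : Subgroup G} {a0 p : G}
    (h : Exc ρ (IsL ρ) a K K' a0 p) : Odd (Nat.card 𝐂(ρ a)) := by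
  have hG := hW.toSt.toGeo
  obtain ⟨b, hb, hbK⟩ := hW.sys.other h.hK a
  rw [hW.cardC hb.symm, la_sup hG h.hK.1 h.ha hbK hb.symm]
  refine Odd.mul ?_ (h.odd hG hW.sys)
  haveI : Nonempty Ω := ⟨a⟩
  exact Nat.Even.sub_odd Nat.card_pos hW.even odd_one

theorem ex2_cop {x : G} {m n : ℕ} (h : m.Coprime n) (hm : x ^ m = 1) (hn : x ^ n = 1) : x = 1 :=
  orderOf_eq_one_iff.1 (Nat.eq_one_of_dvd_coprimes h (orderOf_dvd_of_pow_eq_one hm)
    (orderOf_dvd_of_pow_eq_one hn))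

theorem ex2_card {A : Subgroup G} {x : G} (hx : x ∈ A) : x ^ Nat.card A = 1 :=
  congrArg Subtype.val (pow_card_eq_one' (x := (⟨x, hx⟩ : A)))

theorem ex2_self (hW : LW ρ) {a : Ω} {K K' : Subgroup G} {a0 p : G}
    (h : Exc ρ (IsL ρ) a K K' a0 p) (c : G) (hc : c ∈ 𝐂(K)) (hn : c ∈ 𝐍(zpowers a0)) :
    c ∈ zpowers a0 := by
  have hG := hW.toSt.toGeo
  have hS := hW.sys
  rcases h.nor hG hS hc hn with e | e
  · exact h.cent hG hS hc (mul_inv_eq_iff_eq_mul.1 e)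
  · obtain ⟨m, hm⟩ := h.odd hG hS
    have e2 : c * c * a0 = a0 * (c * c) := by
      have : c * (c * a0 * c⁻¹) * c⁻¹ = a0 := by
        rw [e, show c * a0⁻¹ * c⁻¹ = (c * a0 * c⁻¹)⁻¹ by group, e, inv_inv]
      conv_rhs => rw [← this]
      group
    have h1 := pow_mem (h.cent hG hS (mul_mem hc hc) e2) (m + 1)
    have h2 := ex2_card hc
    rw [hm] at h2
    rwa [← pow_two, ← pow_mul, show 2 * (m + 1) = 2 * m + 1 + 1 by ring, pow_succ, h2,
      one_mul] at h1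

theorem ex2_main (hW : LW ρ) {a : Ω} {K K' : Subgroup G} {a0 p : G}
    (h : Exc ρ (IsL ρ) a K K' a0 p) : 𝐂(K) = zpowers a0 := by
  have hG := hW.toSt.toGeo
  have hS := hW.sys
  have o11 := h.ord hG hS
  have a11 : a0 ^ 11 = 1 := by rw [← o11, pow_orderOf_eq_one]
  obtain ⟨A0, A0A, AA0, A11, hA⟩ := em_burn 𝐂(K) a0 h.mem o11 (ex2_self hW h)
  have c11 : (11 : ℕ).Coprime (Nat.card A0) := (Nat.Prime.coprime_iff_not_dvd (by norm_num)).2 A11
  by_cases h0 : A0 = ⊥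
  · refine le_antisymm (fun c hc => ?_) (zpowers_le.2 h.mem)
    obtain ⟨i, d, hd, rfl⟩ := hA c hc
    rw [h0, mem_bot] at hd
    rw [hd, mul_one]; exact pow_mem (mem_zpowers a0) i
  exfalso
  obtain ⟨d0, hd0, d1⟩ : ∃ d ∈ A0, d ≠ 1 := by
    by_contra hh
    push Not at hh
    exact h0 ((eq_bot_iff_forall _).2 hh)
  have AC : 𝐂(K) ≤ 𝐂(ρ a) := centralizer_anti h.ha
  have PC : ρ a ≤ 𝐂(ρ a) := fun x hx => mu_one_iff.1 (hG.mu_mem hx)
  have CN : 𝐂(ρ a) ≤ 𝐍(ρ a) := le_normalizer_of_le_centralizer le_rfl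
  obtain ⟨M, r, hr, PM, MC, NM, hc, hp, hmin⟩ := em_min (ρ a) (lt_of_le_of_ne PC fun e =>
    h.ne1 (hS.disj hG h.hK (e.ge (AC h.mem)) h.mem)) (ex2_odd hW h)
  have zp11 : ∀ c ∈ zpowers a0, c ^ 11 = 1 := fun c ⟨i, e⟩ => by
    rw [← e, ← zpow_natCast, ← zpow_mul, mul_comm, zpow_mul, zpow_natCast, a11, one_zpow]
  by_cases r11 : r = 11
  · subst r11
    haveI : Fact (Nat.Prime 11) := ⟨hr⟩
    have M121 : ∀ m ∈ M, m ^ 11 ^ 2 = 1 := fun m hm => by
      rw [pow_two, pow_mul, hG.pow11 (hp m hm)]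
    have MA : ∀ m ∈ M, m ∈ 𝐂(K) → m = 1 := fun m hm hmA => by
      by_contra m1
      have hX : IsPGroup 11 ↥(M ⊓ 𝐂(K)) := fun x => ⟨2, Subtype.ext (M121 x x.2.1)⟩
      have hT : IsPGroup 11 ↥(zpowers a0) :=
        IsPGroup.of_card (n := 1) (by rw [Nat.card_zpowers, o11]; norm_num)
      have hn : zpowers a0 ≤ 𝐍(M ⊓ 𝐂(K)) := le_normalizer_inf
        (zpowers_le.2 (NM (CN (AC h.mem)))) (le_normalizer_of_le (zpowers_le.2 h.mem))
      have hne : M ⊓ 𝐂(K) ≠ ⊥ := fun e => m1 (by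
        have : m ∈ M ⊓ 𝐂(K) := ⟨hm, hmA⟩
        rwa [e] at this)
      have := inf_centralizer_ne_bot hX hT hn hne
      obtain ⟨⟨z, ⟨zM, zA⟩, zc⟩, z1⟩ := (ne_bot_iff_exists_ne_one.1 this)
      have z1' : z ≠ 1 := fun e => z1 (Subtype.ext e)
      have zT := h.cent hG hS zA (zc a0 (mem_zpowers a0)).symm
      have a0M : a0 ∈ M := by
        have e : zpowers z = zpowers a0 := eq_of_le_of_card_ge (zpowers_le.2 zT) (by
          rw [Nat.card_zpowers, Nat.card_zpowers, o11, orderOf_eq_prime (zp11 z zT) z1'])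
        exact zpowers_le.2 zM (e ▸ mem_zpowers a0)
      have k1 : a0 * (d0 * a0⁻¹ * d0⁻¹) ∈ M :=
        mul_mem a0M (conj_mem_of_mem_normalizer (NM (CN (AC (A0A hd0)))) (inv_mem a0M))
      have k2 : a0 * d0 * a0⁻¹ * d0⁻¹ ∈ A0 :=
        mul_mem (conj_mem_of_mem_normalizer (AA0 h.mem) hd0) (inv_mem hd0)
      have k3 := ex2_cop (c11.pow_left 2) (by simpa only [mul_assoc] using M121 _ k1) (ex2_card k2)
      have k4 : d0 * a0 = a0 * d0 := by
        rw [mul_inv_eq_one, mul_inv_eq_iff_eq_mul] at k3; exact k3.symm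
      exact d1 (ex2_cop c11 (zp11 _ (h.cent hG hS (A0A hd0) k4)) (ex2_card hd0))
    have MN : ∀ m ∈ M, m ∈ 𝐍(K) → m ∈ ρ a := fun m hm hn => by
      obtain ⟨x, hx, c, hcA, rfl, -⟩ := hS.dec h.hK h.ha hn (mu_one_iff.2 (MC hm))
      rw [MA c ((M.mul_mem_cancel_left (PM.le hx)).1 hm) hcA, mul_one]; exact hx
    obtain ⟨b, hb, hbK⟩ := hS.other h.hK a
    obtain ⟨g, gK, s, -, h3, h4, h5, -⟩ := la_hs hG h.hK.1 h.ha hbK hb.symm
    refine eb_main (ρ a) M A0 a0 g (hG.card a) PM MC NM hc hp hmin (AC h.mem) a11 (A0A.trans AC)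
      (AA0 h.mem) A11 h3 h5 (h.mem g gK) (fun m hm e => MN m hm (hS.norm hG h.hK h.mem h.ne1 e))
      (fun m hm e => MN m hm (hS.norm hG h.hK (A0A hd0) d1 (e d0 hd0))) fun m hm e => ?_
    have m1 := mu_one_iff.2 (MC hm)
    have e2 : m • b = b := hW.fix2 h3 (by norm_num)
      (by rw [smul_smul, ← e, mul_smul, hG.mu_fix h4]) (hG.mu_fix h4)
      (fun e => hb (MulAction.injective m (e.trans (hG.mu_fix m1).symm))) hb
    exact MA m hm (la_typ hG h.hK.1 h.ha hbK hb m1 e2)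
  · obtain ⟨R, R0, RM, NR, Rr, Rc⟩ := em_part (ρ a) M r hr r11 (hG.card a) PM MC hc hp
    have cr : (11 : ℕ).Coprime r := (Nat.coprime_primes (by norm_num) hr).2 (Ne.symm r11)
    have RN : ∀ y ∈ R, y ∈ 𝐍(K) → y ∈ 𝐂(K) := fun y hy hn => by
      obtain ⟨x, hx, c, hcA, rfl, e⟩ := hS.dec h.hK h.ha hn (mu_one_iff.2 (MC (RM hy)))
      have e1 := Rr _ hy
      rw [Commute.mul_pow e, mul_eq_one_iff_eq_inv] at e1
      have e2 := hS.disj hG h.hK (pow_mem hx r) (e1 ▸ inv_mem (pow_mem hcA r))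
      rw [ex2_cop cr (hG.pow11 hx) e2, one_mul]; exact hcA
    have RA : ∀ y ∈ R, y ∈ 𝐂(K) → y = 1 := fun y hy hyA => by
      by_contra y1
      have RK : R ≤ 𝐂(K) := fun z hz => RN z hz (hS.norm hG h.hK hyA y1 (Rc z hz y hy))
      obtain ⟨g, g1, e⟩ := hS.trM a K K' h.hK h.hK' h.ha h.ha'
      have : R ≤ 𝐂(K') := by
        rw [← e, ← cj_centralizer, ← cj_eq_of_mem_normalizer (NR (NM (CN (mu_one_iff.1 g1))))]
        exact cj_mono g RK
      exact h.ne (hS.eq_of_cent hG h.hK h.hK' hyA (this hy) y1)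
    have AR : 𝐂(K) ≤ 𝐍(R) := fun c hc => NR (NM (CN (AC hc)))
    obtain ⟨y, hy, y1, hyc⟩ := em_fpf R A0 a0 o11 R0 (A0A.trans AR) (AR h.mem) (AA0 h.mem)
      (fun hd => by
        haveI : Fact (Nat.Prime 11) := ⟨by norm_num⟩
        obtain ⟨z, hz⟩ := exists_prime_orderOf_dvd_card' 11 hd
        have e : z ^ r = 1 := Subtype.ext (Rr z z.2)
        have := orderOf_dvd_of_pow_eq_one e
        rw [hz] at this
        exact r11 ((Nat.prime_dvd_prime_iff_eq (by norm_num) hr).1 this).symm) A11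
      (fun y hy e => by
        have yC : y ∈ 𝐂(ρ a) := sup_le (RM.trans MC) (A0A.trans AC) hy
        obtain ⟨x, hx, c, hcA, rfl, e2⟩ := hS.dec h.hK h.ha (hS.norm hG h.hK h.mem h.ne1 e)
          (mu_one_iff.2 yC)
        have e3 : c * a0 = a0 * c := by
          rw [mul_assoc, ← mul_assoc a0, ← h.mem x (h.ha hx), mul_assoc] at e
          exact mul_left_cancel e
        rw [Commute.mul_pow e2, hG.pow11 hx, zp11 c (h.cent hG hS hcA e3), one_mul])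
    exact y1 (RA y hy (RN y hy (hS.norm hG h.hK (A0A hd0) d1 (hyc d0 hd0))))

end H30.E11
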